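import Cfsg.Agent.H423.Rg.Tool
import Cfsg.Agent.H568.SC.Mon
import Cfsg.Agent.H547.SelfCent.Base
import Cfsg.Agent.H847.MonDeg
import Cfsg.Agent.H940.EngData
import Cfsg.Agent.H863.BMin
import Cfsg.Agent.NotCT.Orders
import Cfsg.Agent.S2084
import Cfsg.Agent.S2085

/-!
# S3691, the rows of the sporadic groups (helper423)

The Monster has no factorization at all: the subgroups of order divisible by 59 are the Monster and groups of order
at most 102660, and every proper subgroup has index at least 196883. For the Baby Monster the factor of order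
`> 3 * 29!` has index less than 4371.

* `row_m`, `row_b` : the rows of S3691.
-/

set_option autoImplicit false
set_option maxRecDepth 100000

namespace Cfsg.Agent.H423.Rg

open Cfsg Subgroup Cfsg.Agent.H454.Reg
open Cfsg.Agent.OrdDiv Cfsg.Agent.H940.Eng Cfsg.Agent.H940.Eng.D

/-! ### the Baby Monster -/

theorem card_b : Nat.card Spor.BabyMonster = 4154781481226426191177580544000000 :=
  NotCT.Orders.b ⟨MulEquiv.refl _⟩

theorem fac_b (X Y : Subgroup Spor.BabyMonster) (_h : Nat.card X * Nat.card Y = Nat.card Spor.BabyMonster)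
    (hY : 3 * Nat.factorial 29 < Nat.card Y) : X = ⊤ ∨ Y = ⊤ := by
  right
  have hfin : Finite Spor.BabyMonster := Nat.finite_of_card_ne_zero (by rw [card_b]; norm_num)
  by_contra hne
  have h1 : 4371 ≤ Y.index := index_ge hne fun ρ hρ => H863.BMin.min_degree two_ne_zero ρ hρ
  have h2 := Y.card_mul_index
  rw [card_b] at h2
  have h3 : 3 * Nat.factorial 29 * 4371 ≤ Nat.card Y * Y.index := Nat.mul_le_mul hY.le h1
  rw [h2] at h3
  have h4 : ¬ 3 * Nat.factorial 29 * 4371 ≤ 4154781481226426191177580544000000 := by decide +kernel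
  exact h4 h3

/-- **the row of the Baby Monster** -/
theorem row_b : Row Spor.BabyMonster := by
  intro G _ _ T H B h hT
  obtain ⟨e⟩ := hT
  exact (false_of h e S2084.result fac_b).elim

/-! ### the Monster -/

open Cfsg.Agent.H568.SC.Mon (MG)

theorem card_m : Nat.card MG = n_m := Cfsg.Agent.MonsterP.EquivOf.isM_model.2

theorem finite_m : Finite MG := MFive.Row.finite_model

/-- the local data at the prime 59 -/
def ld59 : LD := ⟨59, 59, [(29, 1), (59, 1)]⟩

theorem loc59 (hK : Cfsg.Agent.H995.CopEngine.AllKnown.{0}) : Loc MG ld59 := by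
  have hfin := finite_m
  have hsq : ¬ 59 ^ 2 ∣ Nat.card MG := by
    rw [card_m]
    intro h
    exact absurd (Nat.mod_eq_zero_of_dvd h) (by decide +kernel)
  refine ⟨by show Nat.Prime 59; norm_num, ?_, hsq, ?_⟩
  · intro x hx
    have hx' : x ∈ [((29 : ℕ), (1 : ℕ)), (59, 1)] := hx
    simp only [List.mem_cons, List.not_mem_nil, or_false] at hx'
    rcases hx' with rfl | rfl <;> norm_num
  · intro R hR
    have hR' : Nat.card R = 59 := hR
    have hp : Nat.Prime 59 := by norm_num
    have : Fact (Nat.Prime 59) := ⟨hp⟩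
    obtain ⟨x0, hx0⟩ := exists_prime_orderOf_dvd_card' (G := R) 59 (by rw [hR'])
    have hx : orderOf (x0 : MG) = 59 := by rw [Subgroup.orderOf_coe, hx0]
    have hRx : R = zpowers (x0 : MG) := by
      refine (Subgroup.eq_of_le_of_card_ge (by rw [zpowers_le]; exact x0.2) ?_).symm
      rw [Nat.card_zpowers, hx, hR']
    have hc : Nat.card (centralizer ({(x0 : MG)} : Set MG)) = 59 := H568.SC.Mon.sc_model hK _ hx
    obtain ⟨e, he, -, h2, h3, -⟩ := H547.SelfCent.arith (G := MG) (r := 59) hp hx (by rwa [← pow_two])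
    rw [card_m, hc] at h2
    have h29 : e = 29 := by
      have hmem : e ∈ (58 : ℕ).divisors := Nat.mem_divisors.2 ⟨he, by norm_num⟩
      have key : ∀ e ∈ (58 : ℕ).divisors, n_m / (59 * e) % 59 = 1 % 59 → e = 29 := by decide +kernel
      exact key e hmem h2
    rw [hRx]
    constructor
    · have h4 : centralizer (zpowers (x0 : MG) : Set MG) = centralizer ({(x0 : MG)} : Set MG) := by
        rw [zpowers_eq_closure, centralizer_closure]
      rw [h4, hc]
      exact dvd_rfl
    · rw [h3, hc, h29]
      exact Dvd.intro 1 (by decide)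

/-- the numerical test -/
def tst (s t : ℕ) : Bool := nuc (divsT ld59.fN) 59 ld59.N s t

theorem tst_true : ((59 :: o_m).all fun s => s % 59 != 0 || s == n_m || [1, 29].all fun t =>
    !(tst s t) || Nat.ble (s * t) 102660) = true := by decide +kernel

theorem small_m : (l_m.all fun x => x.1 == 59 || (List.range (x.2 + 1)).all fun a => a == 0 || !(okexp 59 59 x.1 a)) = true := by
  decide +kernel

/-- the subgroups of order divisible by 59 -/
theorem card_le (B : Base) (hK : Cfsg.Agent.H995.CopEngine.AllKnown.{0}) {X : Subgroup MG} (h59 : 59 ∣ Nat.card X) :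
    X = ⊤ ∨ Nat.card X ≤ 102660 := by
  have hfin := finite_m
  obtain ⟨k, s, t, e1, e2, e3, e4, -, e5, e6, e7, -⟩ := struct_sub v_m card_m (ords_m B) (loc59 hK) h59
  have hXpos : 0 < Nat.card X := Nat.card_pos
  have hkpos : k ≠ 0 := by
    rintro rfl
    rw [zero_mul, zero_mul] at e1
    omega
  have hd : Nat.card X ∣ n_m := card_m ▸ card_subgroup_dvd_card X
  have hkd : k ∣ n_m := dvd_trans (by rw [e1, mul_assoc]; exact dvd_mul_right _ _) hd
  -- `k = 1`
  have hk : k = 1 := by
    by_contra hk1
    obtain ⟨p, hp, hpk⟩ := Nat.exists_prime_and_dvd hk1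
    have hp59 : p ≠ 59 := by
      rintro rfl
      exact e5 hpk
    have ha : 1 ≤ k.factorization p := (hp.dvd_iff_one_le_factorization hkpos).1 hpk
    have hpa : p ^ k.factorization p ∣ n_m := (Nat.ordProj_dvd k p).trans hkd
    obtain ⟨b, hb, hab⟩ := exists_pair v_m hp ha hpa
    have h1 := small_m
    rw [List.all_eq_true] at h1
    have h2 := h1 _ hb
    rw [Bool.or_eq_true, beq_iff_eq, List.all_eq_true] at h2
    rcases h2 with h2 | h2
    · exact hp59 h2
    · have h3 := h2 (k.factorization p) (List.mem_range.2 (by show _ < b + 1; omega))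
      rw [Bool.or_eq_true, beq_iff_eq] at h3
      rcases h3 with h3 | h3
      · omega
      · have h4 : okexp 59 59 p (k.factorization p) = true := e6 p hp
        rw [h4] at h3
        exact absurd h3 (by decide)
  rw [hk, one_mul] at e1
  have ht : t = 1 ∨ t = 29 := by
    have h1 : t ∣ 29 := by
      have : ld59.N / ld59.r = 29 := by decide +kernel
      rwa [this] at e2
    exact (Nat.dvd_prime (by norm_num)).1 h1
  have h1 := tst_true
  rw [List.all_eq_true] at h1
  have h2 := h1 s e3
  rw [Bool.or_eq_true, Bool.or_eq_true, bne_iff_ne, beq_iff_eq, List.all_eq_true] at h2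
  rcases h2 with (h2 | h2) | h2
  · exact absurd (Nat.mod_eq_zero_of_dvd e4) h2
  · left
    apply eq_top_of_le_card
    rw [card_m, ← h2, e1]
    exact Nat.le_mul_of_pos_right _ (by rcases ht with rfl | rfl <;> norm_num)
  · right
    have h3 := h2 t (by rcases ht with rfl | rfl <;> simp)
    rw [Bool.or_eq_true] at h3
    rcases h3 with h3 | h3
    · have h4 : tst s t = true := e7
      rw [h4] at h3
      exact absurd h3 (by decide)
    · rw [e1]
      exact Nat.le_of_ble_eq_true h3

theorem fac_model (B : Base) (hK : Cfsg.Agent.H995.CopEngine.AllKnown.{0}) (X Y : Subgroup MG)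
    (h : Nat.card X * Nat.card Y = Nat.card MG) : X = ⊤ ∨ Y = ⊤ := by
  have hfin := finite_m
  have key : ∀ X Y : Subgroup MG, Nat.card X * Nat.card Y = Nat.card MG → 59 ∣ Nat.card X → X = ⊤ ∨ Y = ⊤ := by
    intro X Y h h59
    rcases card_le B hK h59 with h1 | h1
    · exact Or.inl h1
    · right
      by_contra hne
      have h2 : 196883 ≤ Y.index := index_ge hne fun ρ hρ => by
        refine H847.MonDeg.bound_model ρ ?_
        by_contra hno
        push Not at hno
        exact hρ (MonoidHom.ext hno)
      have h3 := Y.card_mul_index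
      rw [← h, mul_comm] at h3
      have h4 := Nat.eq_of_mul_eq_mul_right Nat.card_pos h3
      omega
  have hd : 59 ∣ Nat.card X * Nat.card Y := by
    rw [h, card_m]
    exact Nat.dvd_of_mod_eq_zero (by decide +kernel)
  rcases (show Nat.Prime 59 by norm_num).dvd_mul.1 hd with h1 | h1
  · exact key X Y h h1
  · exact (key Y X (by rw [mul_comm]; exact h) h1).symm

/-- **the row of the Monster** -/
theorem row_m (B : Base) (hK : Cfsg.Agent.H995.CopEngine.AllKnown.{0}) : Row Spor.Monster := by
  intro G _ _ T H B' h hT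
  obtain ⟨e⟩ := hT
  obtain ⟨f⟩ := Cfsg.Agent.MonsterP.Equiv.equiv
  refine (false_of h (e.trans f) ?_ fun X Y hXY _ => fac_model B hK X Y hXY).elim
  rw [← H55.OutGen.card_out_congr f]
  exact S2085.result

end Cfsg.Agent.H423.Rg
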