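import Cfsg.Agent.H454.Reg.Tools
import Cfsg.Agent.H55.OutGen

/-!
# S3691, the sporadic groups: tools (helper423)

* `top_of_out` : if `Out T` is trivial, the almost simple group is `T`;
* `Ex.false_of` : no exact factorization if every factorization of the simple group is trivial;
* `perm`, `perm_ne` : the permutation module of a proper subgroup is nontrivial.
-/

set_option autoImplicit false

namespace Cfsg.Agent.H423.Rg

open Cfsg Subgroup Cfsg.Agent.H454.Reg

universe u

/-- if `Out T` is trivial, the almost simple group is `T` -/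
theorem top_of_out {G : Type*} [Group G] [Finite G] (T : Subgroup G) (hT : T.Normal) (hc : centralizer (T : Set G) = ⊥)
    {S : Type*} [Group S] (e : T ≃* S) (ho : Nat.card (Out S) = 1) : T = ⊤ := by
  have h1 := index_dvd_out T hc
  rw [H55.OutGen.card_out_congr e, ho, Nat.dvd_one, Subgroup.index_eq_one] at h1
  exact h1

/-- no exact factorization if every factorization of the simple group is trivial -/
theorem false_of {G : Type*} [Group G] [Finite G] {T H B : Subgroup G} (h : Ex T H B) {S : Type*} [Group S]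
    (e : T ≃* S) (ho : Nat.card (Out S) = 1)
    (hf : ∀ X Y : Subgroup S, Nat.card X * Nat.card Y = Nat.card S → 3 * Nat.factorial 29 < Nat.card Y → X = ⊤ ∨ Y = ⊤) :
    False := by
  have hT := top_of_out T h.normal h.cent e ho
  let f : G ≃* S := (Subgroup.topEquiv.symm.trans (MulEquiv.subgroupCongr hT.symm)).trans e
  have hfinS : Finite S := Finite.of_equiv _ f.toEquiv
  have hc : ∀ X : Subgroup G, Nat.card (X.map f.toMonoidHom) = Nat.card X := fun X =>
    card_map_of_injective f.injective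
  have ht : ∀ X : Subgroup G, X.map f.toMonoidHom = ⊤ → X = ⊤ := by
    intro X hX
    rw [← card_eq_iff_eq_top] at hX ⊢
    rw [← hc, hX]
    exact (Nat.card_congr f.toEquiv).symm
  rcases hf (H.map f.toMonoidHom) (B.map f.toMonoidHom)
    (by rw [hc, hc, h.card]; exact Nat.card_congr f.toEquiv) (by rw [hc]; exact h.large) with h1 | h1
  · exact h.max.1 (ht _ h1)
  · have hB := ht _ h1
    have hH : Nat.card H = 1 := by
      have h2 := h.card
      rw [hB, card_top] at h2
      exact Nat.eq_of_mul_eq_mul_right Nat.card_pos (by rw [h2, one_mul])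
    have hH1 : H = ⊥ := card_eq_one.1 hH
    have hmax := h.max
    rw [hH1] at hmax
    -- every element generates `G`
    obtain ⟨x, hx⟩ : ∃ x : G, x ≠ 1 := by
      by_contra hno
      push Not at hno
      exact hmax.1 (eq_top_iff.2 fun g _ => mem_bot.2 (hno g))
    have hz : zpowers x = ⊤ := by
      refine hmax.2 _ (bot_lt_iff_ne_bot.2 fun h3 => hx ?_)
      exact zpowers_eq_bot.1 h3
    apply h.nonab
    refine ⟨⟨fun a b => Subtype.ext ?_⟩⟩
    obtain ⟨i, hi⟩ := mem_zpowers_iff.1 (show (a : G) ∈ zpowers x by rw [hz]; exact mem_top _)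
    obtain ⟨j, hj⟩ := mem_zpowers_iff.1 (show (b : G) ∈ zpowers x by rw [hz]; exact mem_top _)
    rw [Subgroup.coe_mul, Subgroup.coe_mul, ← hi, ← hj, ← zpow_add, ← zpow_add, add_comm]

/-- the functions on a `G`-set -/
def perm (G X : Type*) [Group G] [MulAction G X] : G →* Module.End ℂ (X → ℂ) where
  toFun g := LinearMap.funLeft ℂ ℂ (fun x : X => g⁻¹ • x)
  map_one' := by
    apply LinearMap.ext
    intro f
    funext x
    show f ((1 : G)⁻¹ • x) = f x
    rw [inv_one, one_smul]
  map_mul' a b := by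
    apply LinearMap.ext
    intro f
    funext x
    show f ((a * b)⁻¹ • x) = f (b⁻¹ • (a⁻¹ • x))
    rw [mul_inv_rev, mul_smul]

/-- the permutation module of a proper subgroup is nontrivial -/
theorem perm_ne {G : Type*} [Group G] {H : Subgroup G} (hH : H ≠ ⊤) : perm G (G ⧸ H) ≠ 1 := by
  classical
  obtain ⟨g, hg⟩ : ∃ g : G, g ∉ H := by
    by_contra hno
    push Not at hno
    exact hH (eq_top_iff.2 fun g _ => hno g)
  intro h
  have h1 : perm G (G ⧸ H) g⁻¹ = 1 := by rw [h]; rfl
  have h2 := congrFun (LinearMap.congr_fun h1 (Pi.single ((1 : G) : G ⧸ H) (1 : ℂ))) ((1 : G) : G ⧸ H)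
  have h3 : (Pi.single ((1 : G) : G ⧸ H) (1 : ℂ) : (G ⧸ H) → ℂ) (g⁻¹⁻¹ • ((1 : G) : G ⧸ H)) =
    (Pi.single ((1 : G) : G ⧸ H) (1 : ℂ) : (G ⧸ H) → ℂ) ((1 : G) : G ⧸ H) := h2
  rw [Pi.single_eq_same, inv_inv] at h3
  by_cases hne : g • ((1 : G) : G ⧸ H) = ((1 : G) : G ⧸ H)
  · apply hg
    have h4 : ((g * 1 : G) : G ⧸ H) = ((1 : G) : G ⧸ H) := hne
    rw [mul_one] at h4
    have h5 := QuotientGroup.eq.1 h4
    rw [mul_one] at h5
    exact (inv_mem_iff).1 h5
  · rw [Pi.single_eq_of_ne hne] at h3
    exact zero_ne_one h3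

/-- a lower bound of the degrees is a lower bound of the indices -/
theorem index_ge {G : Type*} [Group G] [Finite G] {m : ℕ} {H : Subgroup G} (hH : H ≠ ⊤)
    (h : ∀ ρ : G →* Module.End ℂ ((G ⧸ H) → ℂ), ρ ≠ 1 → m ≤ Module.finrank ℂ ((G ⧸ H) → ℂ)) : m ≤ H.index := by
  classical
  have hft : Fintype (G ⧸ H) := Fintype.ofFinite _
  have h1 := h _ (perm_ne hH)
  rwa [Module.finrank_fintype_fun_eq_card, ← Nat.card_eq_fintype_card] at h1

end Cfsg.Agent.H423.Rg
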